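import Groth.Agent.H17.GenusZeroSt.Plane
import Groth.Agent.H23Weier.Smooth
import Mathlib.RingTheory.GradedAlgebra.Radical

/-!
# Cubic forms with a flex at `(0 : 1 : 0)` and tangent line `Z = 0`
-/

set_option autoImplicit false
set_option linter.style.haveILetI false
set_option backward.isDefEq.respectTransparency false

universe u

open CategoryTheory CategoryTheory.Limits AlgebraicGeometry TopologicalSpace
open MvPolynomial LefPen

namespace Groth.Agent.H29Weierstrass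

noncomputable section

variable {k : Type u} [Field k]

/-- Exponents in three variables. -/
def ex (a b c : ℕ) : Fin (2 + 1) →₀ ℕ := Finsupp.equivFunOnFinite.symm ![a, b, c]

theorem ex_apply (a b c : ℕ) (i : Fin (2 + 1)) : ex a b c i = ![a, b, c] i := rfl

theorem monomial_ex (a b c : ℕ) (r : k) :
    monomial (ex a b c) r = C r * X 0 ^ a * X 1 ^ b * X 2 ^ c := by
  rw [monomial_eq, Finsupp.prod_fintype _ _ (fun i => pow_zero _), Fin.prod_univ_three]
  simp [ex_apply, mul_assoc]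

/-- A cubic form is the combination of its ten monomials. -/
theorem cubic_expand {F : MvPolynomial (Fin (2 + 1)) k} (hF : F.IsHomogeneous 3) :
    F = monomial (ex 3 0 0) (coeff (ex 3 0 0) F) + monomial (ex 2 1 0) (coeff (ex 2 1 0) F) +
      monomial (ex 1 2 0) (coeff (ex 1 2 0) F) + monomial (ex 0 3 0) (coeff (ex 0 3 0) F) +
      monomial (ex 2 0 1) (coeff (ex 2 0 1) F) + monomial (ex 1 1 1) (coeff (ex 1 1 1) F) +
      monomial (ex 0 2 1) (coeff (ex 0 2 1) F) + monomial (ex 1 0 2) (coeff (ex 1 0 2) F) +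
      monomial (ex 0 1 2) (coeff (ex 0 1 2) F) + monomial (ex 0 0 3) (coeff (ex 0 0 3) F) := by
  classical
  ext m
  have hm : m = ex (m 0) (m 1) (m 2) := Finsupp.ext fun i => by fin_cases i <;> simp [ex_apply]
  have hne : ∀ {a b c a' b' c' : ℕ}, a ≠ a' ∨ b ≠ b' ∨ c ≠ c' → ex a b c ≠ ex a' b' c' := by
    intro a b c a' b' c' h e
    have e0 := congrArg (fun f : Fin (2 + 1) →₀ ℕ => f 0) e
    have e1 := congrArg (fun f : Fin (2 + 1) →₀ ℕ => f 1) e
    have e2 := congrArg (fun f : Fin (2 + 1) →₀ ℕ => f 2) e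
    simp [ex_apply] at e0 e1 e2
    omega
  by_cases h3 : m 0 + m 1 + m 2 = 3
  · generalize m 0 = a at hm h3
    generalize m 1 = b at hm h3
    generalize m 2 = c at hm h3
    subst hm
    have ha : a ≤ 3 := by omega
    have hb : b ≤ 3 := by omega
    obtain rfl : c = 3 - a - b := by omega
    interval_cases a <;> interval_cases b <;> first
      | omega
      | simp [coeff_monomial, hne]
  · have h0 : coeff m F = 0 := hF.coeff_eq_zero (by
      simp [Finsupp.degree_eq_sum, Fin.sum_univ_three]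
      exact h3)
    rw [h0]
    have hne' : ∀ a b c : ℕ, a + b + c = 3 → ex a b c ≠ m := by
      intro a b c habc e
      subst e
      simp [ex_apply] at h3
      exact h3 habc
    simp [coeff_monomial, hne']

/-- Setting the last variable to zero. -/
def killLast : MvPolynomial (Fin (2 + 1)) k →ₐ[k] MvPolynomial (Fin (2 + 1)) k := aeval ![X 0, X 1, 0]

theorem killLast_expand {F : MvPolynomial (Fin (2 + 1)) k} (hF : F.IsHomogeneous 3) :
    killLast F = monomial (ex 3 0 0) (coeff (ex 3 0 0) F) + monomial (ex 2 1 0) (coeff (ex 2 1 0) F) +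
      monomial (ex 1 2 0) (coeff (ex 1 2 0) F) + monomial (ex 0 3 0) (coeff (ex 0 3 0) F) := by
  conv_lhs => rw [cubic_expand hF]
  simp [killLast, monomial_ex]

variable (F : Form 2 k 3)

/-- If the line `Z = 0` meets the cubic only at `(0 : 1 : 0)`, the cubic is `a X³` on that line. -/
theorem coeff_eq_zero_of_flex (hirr : Irreducible F.1)
    (hflex : ∀ y : CohB1.ProjSpace 2 k, F.1 ∈ y.asHomogeneousIdeal → X 2 ∈ y.asHomogeneousIdeal →
      X 0 ∈ y.asHomogeneousIdeal) :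
    coeff (ex 3 0 0) F.1 ≠ 0 ∧ coeff (ex 2 1 0) F.1 = 0 ∧ coeff (ex 1 2 0) F.1 = 0 ∧
      coeff (ex 0 3 0) F.1 = 0 := by
  classical
  have hF : F.1.IsHomogeneous 3 := (mem_homogeneousSubmodule 3 _).1 F.2
  let I : Ideal (MvPolynomial (Fin (2 + 1)) k) := Ideal.span {F.1, X 2}
  have hI : I.IsHomogeneous (CohB1.polyGrading 2 k) := by
    refine Ideal.homogeneous_span _ _ ?_
    rintro x (rfl | rfl)
    · exact ⟨3, F.2⟩
    · exact ⟨1, H11Proj.ProjSpace.X_mem 2 k 2⟩
  have hrad : (X 0 : MvPolynomial (Fin (2 + 1)) k) ∈ I.radical := by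
    rw [hI.radical_eq]
    refine Ideal.mem_sInf.2 ?_
    rintro J ⟨hJh, hIJ, hJp⟩
    by_cases hirrel : (HomogeneousIdeal.irrelevant (CohB1.polyGrading 2 k)).toIdeal ≤ J
    · exact hirrel (HomogeneousIdeal.mem_irrelevant_of_mem _ one_pos (H11Proj.ProjSpace.X_mem 2 k 0))
    · let y : ProjectiveSpectrum (CohB1.polyGrading 2 k) := ⟨⟨J, hJh⟩, hJp, hirrel⟩
      exact hflex y (hIJ (Ideal.subset_span (by simp))) (hIJ (Ideal.subset_span (by simp)))
  obtain ⟨N, hN⟩ := hrad
  obtain ⟨p, q, hpq⟩ := Ideal.mem_span_pair.1 hN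
  have hdvd : killLast F.1 ∣ X 0 ^ N := ⟨killLast p, by
    have h := congrArg (killLast (k := k)) hpq
    simp only [map_add, map_mul, map_pow] at h
    simp [killLast] at h ⊢
    linear_combination -h⟩
  obtain ⟨j, -, hj⟩ := (dvd_prime_pow X_prime N).1 hdvd
  obtain ⟨w, hw⟩ := hj.symm
  obtain ⟨a, -, ha⟩ := (isUnit_iff_eq_C_of_isReduced).1 w.isUnit
  rw [ha] at hw
  have hG : killLast F.1 = monomial (ex j 0 0) a := by
    rw [← hw, monomial_ex]; ring
  have hG3 := (killLast_expand hF).symm.trans hG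
  have ha0 : a ≠ 0 := by
    rintro rfl
    exact w.ne_zero (ha.trans (map_zero _))
  have hj3 : j = 3 := by
    by_contra hj3
    have h := congrArg (coeff (ex j 0 0)) hG3
    have hne : ∀ a b c : ℕ, a + b + c = 3 → ex a b c ≠ ex j 0 0 := by
      intro a b c habc e
      have e0 := congrArg (fun f : Fin (2 + 1) →₀ ℕ => f 0) e
      have e1 := congrArg (fun f : Fin (2 + 1) →₀ ℕ => f 1) e
      have e2 := congrArg (fun f : Fin (2 + 1) →₀ ℕ => f 2) e
      simp [ex_apply] at e0 e1 e2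
      omega
    simp [coeff_monomial, hne] at h
    exact ha0 h.symm
  subst hj3
  have hne : ∀ {a b : ℕ}, a ≠ 3 → ex a b 0 ≠ ex 3 0 0 ∧ ex 3 0 0 ≠ ex a b 0 := by
    intro a b h
    constructor <;> intro e <;>
    · have e0 := congrArg (fun f : Fin (2 + 1) →₀ ℕ => f 0) e
      simp [ex_apply] at e0
      omega
  have h300 := congrArg (coeff (ex 3 0 0)) hG3
  have h210 := congrArg (coeff (ex 2 1 0)) hG3
  have h120 := congrArg (coeff (ex 1 2 0)) hG3
  have h030 := congrArg (coeff (ex 0 3 0)) hG3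
  have ne1 : ex 2 1 0 ≠ ex 1 2 0 ∧ ex 2 1 0 ≠ ex 0 3 0 ∧ ex 1 2 0 ≠ ex 0 3 0 := by
    refine ⟨?_, ?_, ?_⟩ <;> intro e <;>
    · have e0 := congrArg (fun f : Fin (2 + 1) →₀ ℕ => f 0) e
      simp [ex_apply] at e0
  simp [coeff_monomial, hne, ne1.1, ne1.2.1, ne1.2.2, ne1.1.symm, ne1.2.1.symm, ne1.2.2.symm] at h300 h210 h120 h030
  exact ⟨h300 ▸ ha0, h210, h120, h030⟩

/-- A smooth cubic which is `a X³` on `Z = 0` has a nonzero coefficient at `Y² Z`. -/
theorem coeff_ne_zero_of_smooth (hs : Smooth ((hypIdeal F).subschemeι ≫ CohB1.ProjSpace.toSpec 2 k))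
    (ha : coeff (ex 3 0 0) F.1 ≠ 0) (h1 : coeff (ex 2 1 0) F.1 = 0) (h2 : coeff (ex 1 2 0) F.1 = 0)
    (h3 : coeff (ex 0 3 0) F.1 = 0) : coeff (ex 0 2 1) F.1 ≠ 0 := by
  intro hb
  haveI := (H23Weier.smooth_chart F hs 1).formallySmooth
  have hF : F.1.IsHomogeneous 3 := (mem_homogeneousSubmodule 3 _).1 F.2
  let g := H11Proj.ProjSpace.dehom 2 k 1 F.1
  let i0 : {l : Fin (2 + 1) // l ≠ 1} := ⟨0, by decide⟩
  let i2 : {l : Fin (2 + 1) // l ≠ 1} := ⟨2, by decide⟩
  let R := AdjoinRoot ((Polynomial.X : Polynomial k) ^ 4)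
  let e : R := AdjoinRoot.root _
  let J : Ideal R := Ideal.span {e ^ 3}
  have he4 : e ^ 4 = 0 := by
    rw [← AdjoinRoot.mk_self (f := (Polynomial.X : Polynomial k) ^ 4), map_pow, AdjoinRoot.mk_X]
  have he3 : e ^ 3 ≠ 0 := by
    intro h
    rw [show e ^ 3 = AdjoinRoot.mk _ ((Polynomial.X : Polynomial k) ^ 3) by rw [map_pow, AdjoinRoot.mk_X],
      AdjoinRoot.mk_eq_zero] at h
    have := Polynomial.natDegree_le_of_dvd h (pow_ne_zero 3 Polynomial.X_ne_zero)
    simp at this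
  let c : ℕ → ℕ → ℕ → k := fun a b c => coeff (ex a b c) F.1
  have hev : ∀ (S : Type u) [CommRing S] [Algebra k S] (w : {l : Fin (2 + 1) // l ≠ 1} → S),
      MvPolynomial.aeval w g = algebraMap k S (c 3 0 0) * w i0 ^ 3 +
        algebraMap k S (c 2 0 1) * w i0 ^ 2 * w i2 + algebraMap k S (c 1 1 1) * w i0 * w i2 +
        algebraMap k S (c 1 0 2) * w i0 * w i2 ^ 2 + algebraMap k S (c 0 1 2) * w i2 ^ 2 +
        algebraMap k S (c 0 0 3) * w i2 ^ 3 := by
    intro S _ _ w
    show MvPolynomial.aeval w (H11Proj.ProjSpace.dehom 2 k 1 F.1) = _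
    conv_lhs => rw [cubic_expand hF, h1, h2, h3, hb]
    simp [monomial_ex, H11Proj.ProjSpace.dehom, i0, i2, c]
  let w : {l : Fin (2 + 1) // l ≠ 1} → R := fun l => if l = i0 then e else 0
  let q : MvPolynomial {l : Fin (2 + 1) // l ≠ 1} k ⧸ Ideal.span {g} →ₐ[k] R ⧸ J :=
    Ideal.Quotient.liftₐ _ ((Ideal.Quotient.mkₐ k J).comp (MvPolynomial.aeval w)) (by
      intro z hz
      obtain ⟨d, rfl⟩ := Ideal.mem_span_singleton'.1 hz
      rw [map_mul]
      refine mul_eq_zero_of_right _ ?_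
      rw [AlgHom.comp_apply, hev, Ideal.Quotient.mkₐ_eq_mk, Ideal.Quotient.eq_zero_iff_mem]
      refine Ideal.mem_span_singleton'.2 ⟨algebraMap k R (c 3 0 0), ?_⟩
      simp [w, i0, i2])
  have hJ : IsNilpotent J := ⟨2, by
    rw [Ideal.span_singleton_pow, show (e ^ 3) ^ 2 = e ^ 4 * e ^ 2 by ring, he4, zero_mul,
      Ideal.span_singleton_zero]
    rfl⟩
  let φ := Algebra.FormallySmooth.lift J hJ q
  have hφ : ∀ l, φ (Ideal.Quotient.mk _ (MvPolynomial.X l)) - w l ∈ J := fun l => by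
    rw [← Ideal.Quotient.eq, Algebra.FormallySmooth.mk_lift]
    simp [q]
  obtain ⟨c0, h0⟩ := Ideal.mem_span_singleton'.1 (hφ i0)
  obtain ⟨c2, h2'⟩ := Ideal.mem_span_singleton'.1 (hφ i2)
  have hg : φ (Ideal.Quotient.mk _ g) = 0 := by
    rw [Ideal.Quotient.eq_zero_iff_mem.2 (Ideal.mem_span_singleton_self g), map_zero]
  rw [show φ (Ideal.Quotient.mk _ g) = (φ.comp (Ideal.Quotient.mkₐ k _)) g from rfl,
    MvPolynomial.aeval_unique (φ.comp (Ideal.Quotient.mkₐ k _)), hev] at hg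
  simp only [Function.comp_apply, AlgHom.comp_apply, Ideal.Quotient.mkₐ_eq_mk] at hg
  rw [eq_add_of_sub_eq' h0.symm, eq_add_of_sub_eq' h2'.symm] at hg
  simp [w, i0, i2] at hg
  refine he3 ((((isUnit_iff_ne_zero.2 ha).map (algebraMap k R)).mul_right_eq_zero).1 ?_)
  set A := algebraMap k R (c 3 0 0)
  set T := c0 * e ^ 3
  set U := c2 * e ^ 3
  have k1 : e * T = 0 := by linear_combination c0 * he4
  have k2 : e * U = 0 := by linear_combination c2 * he4
  have k3 : T * T = 0 := by linear_combination c0 ^ 2 * e ^ 2 * he4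
  have k4 : U * U = 0 := by linear_combination c2 ^ 2 * e ^ 2 * he4
  have k5 : T * U = 0 := by linear_combination c0 * c2 * e ^ 2 * he4
  linear_combination hg - A * (3 * e * k1 + 3 * e * k3 + T * k3) -
    algebraMap k R (c 2 0 1) * (e * k2 + 2 * T * k2 + T * k5) - algebraMap k R (c 1 1 1) * (k2 + k5) -
    algebraMap k R (c 1 0 2) * ((e + T) * k4) - algebraMap k R (c 0 1 2) * k4 -
    algebraMap k R (c 0 0 3) * (U * k4)

end

end Groth.Agent.H29Weierstrass
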