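import Groth.Agent.H29CurveDual.SingularEmbedding
import Groth.Agent.H29CurveDual.VADescent
import Groth.Agent.H28Int.FieldExt
import Groth.Agent.H17.Dim
import Groth.Agent.H17.AssPush
import Groth.Agent.H28NT.GoodReduction

/-!
# The morphism of a basis of sections of a module of large degree, and rational points
-/

set_option autoImplicit false
set_option linter.style.haveILetI false
set_option backward.isDefEq.respectTransparency.types false

universe u

open CategoryTheory CategoryTheory.Limits AlgebraicGeometry Opposite TopologicalSpace CohB1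
open Groth.Agent.H11Tilde Groth.Agent.H11Ample Groth.Agent.H11Proj

namespace Groth.Agent.H29Weierstrass

attribute [local instance 10000] H10Coh.hasSheafifyAb H10Coh.hasWeakSheafifyAb H10Coh.hasExtAb H10Coh.enoughInjAb

/-- Very ampleness data give a closed immersion sending the coordinate loci to the loci of generation. -/
theorem exists_closedImmersion_gen {n : ℕ} {R : Type u} [CommRing R] {X : Scheme.{u}} {L : X.Modules}
    (q : X ⟶ Spec (CommRingCat.of R)) (hL : PicF.IsInvertible L) {v : Fin (n + 1) → Γ(L, ⊤)}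
    (h : H29CurveDual.VAData q v) :
    ∃ r : X ⟶ ProjSpace n R, IsClosedImmersion r ∧ r ≫ ProjSpace.toSpec n R = q ∧
      ∀ i, r ⁻¹ᵁ Proj.basicOpen (polyGrading n R) (MvPolynomial.X i) = gen L (v i) := by
  obtain ⟨r, hr, hτ, hpre, hratio⟩ := exists_toPn q hL v h.cover
  refine ⟨r, ?_, hr, hpre⟩
  let W : Fin (n + 1) → (ProjSpace n R).Opens := fun i => Proj.basicOpen (polyGrading n R) (MvPolynomial.X i)
  refine (IsZariskiLocalAtTarget.iff_of_iSup_eq_top (P := @IsClosedImmersion) W
    (ProjSpace.iSup_basicOpen (n := n) (R := R))).2 fun j => ?_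
  refine isClosedImmersion_morphismRestrict
    (Proj.isAffineOpen_basicOpen (polyGrading n R) _ (H11Ample.X_mem j) one_pos) ((hpre j).symm ▸ h.affine j) ?_
  let G := gen L (v j)
  suffices hs : Function.Surjective (r.appLE (W j) G (hpre j).ge) by
    intro b
    obtain ⟨a, ha⟩ := hs (X.presheaf.map (homOfLE (hpre j).ge).op b)
    haveI : IsIso (homOfLE (hpre j).ge) := homOfLE_isIso_of_eq _ (hpre j).symm
    exact ⟨a, (ConcreteCategory.bijective_of_isIso (X.presheaf.map (homOfLE (hpre j).ge).op)).1 ha⟩
  intro b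
  have hb : b ∈ (r.appLE (W j) G (hpre j).ge).hom.range := by
    refine (Subring.closure_le.2 ?_) ((h.surj j).ge (Subring.mem_top b))
    rintro c (⟨a, rfl⟩ | ⟨l, hl⟩)
    · refine ⟨(ProjSpace.toSpec n R).appLE ⊤ (W j) le_top a, ?_⟩
      have e := Scheme.Hom.appLE_comp_appLE r (ProjSpace.toSpec n R) ⊤ (W j) G le_top (hpre j).ge
      simp only [hr] at e
      exact congr($e a)
    · obtain ⟨ρ, hρ⟩ := hratio j l
      refine ⟨ρ, ?_⟩
      have hle : G ≤ r ⁻¹ᵁ W j := (hpre j).ge
      have h3 := congrArg (L.presheaf.map (homOfLE hle).op) hρ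
      erw [H10Coh.mres_mres, Scheme.Modules.map_smul, H10Coh.mres_mres, hl] at h3
      exact (((isGen_gen (v j)).bijective le_rfl).1 (a₁ := c)
        (a₂ := X.presheaf.map (homOfLE hle).op (r.app (W j) ρ)) (by beta_reduce; rw [H10Coh.mres_self]; exact h3)).symm
  obtain ⟨a, ha⟩ := hb
  exact ⟨a, ha⟩

/-- On a geometrically integral curve, spanning sections of a module of degree `≥ 2g + 1` embed the curve. -/
theorem exists_embedding_of_spanning {k : Type u} [Field k] {X : Scheme.{u}} [X.Over (Spec (CommRingCat.of k))]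
    [IsProper (X ↘ Spec (CommRingCat.of k))] [GeometricallyIntegral (X ↘ Spec (CommRingCat.of k))]
    (hdim : topologicalKrullDim X = 1) (h0 : Module.finrank k (Coh.HH X (Coh.structureModule X) 0) = 1)
    {L : X.Modules} (hL : PicF.IsInvertible L)
    (hdeg : 2 * (Curv2.genus k X : ℤ) + 1 ≤ Curv2.deg k X L 1) {n : ℕ} (v : Fin (n + 1) → Γ(L, ⊤))
    (hcomb : ∀ g : Γ(L, ⊤), ∃ c : Fin (n + 1) → k,
      g = ∑ i, ProjUP.toGlobal (X ↘ Spec (CommRingCat.of k)) (c i) • v i)
    (hcover : ∀ x, ∃ l, x ∈ gen L (v l)) :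
    ∃ r : X ⟶ ProjSpace n k, IsClosedImmersion r ∧ r ≫ ProjSpace.toSpec n k = X ↘ Spec (CommRingCat.of k) ∧
      ∀ i, r ⁻¹ᵁ Proj.basicOpen (polyGrading n k) (MvPolynomial.X i) = gen L (v i) := by
  let p := X ↘ Spec (CommRingCat.of k)
  haveI : IsIntegral X := GeometricallyIntegral.isIntegral_of_subsingleton p
  haveI := H29RR.isNoetherian_of_proper (k := k) (X := X)
  let K := AlgebraicClosure k
  let g := Spec.map (CommRingCat.ofHom (algebraMap k K))
  let X' := pullback p g
  let j : X' ⟶ X := pullback.fst p g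
  letI : X'.Over (Spec (CommRingCat.of K)) := ⟨pullback.snd p g⟩
  let p' := X' ↘ Spec (CommRingCat.of K)
  have sq : IsPullback j p' p g := IsPullback.of_hasPullback p g
  haveI : IsProper p' := MorphismProperty.of_isPullback sq ‹IsProper _›
  haveI : IsIntegral X' := GeometricallyIntegral.geometrically_isIntegral g _ _ sq
  haveI : IsIntegralHom g := IsIntegralHom.SpecMap_iff.2 (algebraMap_isIntegral_iff.2 inferInstance)
  haveI : IsIntegralHom j := MorphismProperty.pullback_fst _ _ inferInstance
  have hdim' : topologicalKrullDim X' ≤ 1 :=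
    (H17.topologicalKrullDim_le_of_noSpecializationsInFibres j j.continuous fun x y h e =>
      H17.AssPts.eq_of_specializes_of_map_eq j h e).trans hdim.le
  have hO : Coh.IsCoh (Coh.structureModule X) := H10Coh.isCoh_structureModule' X
  have hLc := H29CurveDual.isCoh_of_isInvertible hL
  let L' := (Scheme.Modules.pullback j).obj L
  have hL' : PicF.IsInvertible L' := H11Ample.isInvertible_pullback j hL
  obtain ⟨e⟩ := H11Ample.nonempty_pullback_structureModule_iso j
  have hO' : ∀ n, Module.finrank K (Coh.HH X' (Coh.structureModule X') n) =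
      Module.finrank k (Coh.HH X (Coh.structureModule X) n) := fun n => by
    rw [← H29CurveDual.finrank_h0_congr (k := K) e n, H28Int.FieldExt.finrank_HH_bc K sq hO n]
  have hg' : Curv2.genus K X' = Curv2.genus k X := hO' 1
  have hd' : Curv2.deg K X' L' 1 = Curv2.deg k X L 1 := by
    rw [H29RR.deg_def, H29RR.deg_def, H28Int.FieldExt.euler_bc K sq hLc, ← H25Euler.euler_congr (k := K) e,
      H28Int.FieldExt.euler_bc K sq hO]
  haveI : L.IsQuasicoherent := hLc.1
  have hcomb' := H29CurveDual.exists_comb_pullTop sq L v hcomb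
  obtain ⟨r, hr, hrk, τ, hτ⟩ := H29CurveDual.exists_closedImmersion_of_spanning (k := K) hdim'
    (by rw [hO' 0, h0]) hL' (by rw [hg', hd']; exact hdeg) _ hcomb'
  haveI := hr
  exact exists_closedImmersion_gen p hL
    (H29CurveDual.vaData_of_baseChange sq hL hcover (H29CurveDual.vaData_of_closedImmersion p' hrk τ hτ))

/-- The residue field at a rational point is the base field. -/
theorem bijective_resMap_of_section {k : Type u} [Field k] {X : Scheme.{u}} [X.Over (Spec (CommRingCat.of k))]
    (s : Spec (CommRingCat.of k) ⟶ X) (hs : s ≫ (X ↘ Spec (CommRingCat.of k)) = 𝟙 _) :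
    Function.Bijective (Curv2.resMap k X (s (IsLocalRing.closedPoint k))) := by
  let f := X ↘ Spec (CommRingCat.of k)
  let x := s.base (IsLocalRing.closedPoint k)
  let φ := X.descResidueField (Scheme.stalkClosedPointTo s)
  have key : ∀ b : k, φ (Curv2.resMap k X x b) = b := by
    intro b
    show φ (X.residue x (X.presheaf.germ ⊤ x trivial (Coh.toGlobal f b : Γ(X, ⊤)))) = b
    rw [← CategoryTheory.comp_apply (X.residue x), Scheme.residue_descResidueField]
    have h2 := ConcreteCategory.congr_hom (Scheme.germ_stalkClosedPointTo s ⊤ trivial)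
      (Coh.toGlobal f b : Γ(X, ⊤))
    refine h2.trans ?_
    show (Scheme.ΓSpecIso (CommRingCat.of k)).hom
      ((Spec (CommRingCat.of k)).presheaf.map _ (s.appTop (f.appTop
        ((Scheme.ΓSpecIso (CommRingCat.of k)).inv _)))) = _
    rw [← CategoryTheory.comp_apply f.appTop, ← Scheme.Hom.comp_appTop, hs]
    refine Eq.trans ?_ (ConcreteCategory.congr_hom (Scheme.ΓSpecIso (CommRingCat.of k)).inv_hom_id _)
    exact congrArg _ (ConcreteCategory.congr_hom ((Spec (CommRingCat.of k)).presheaf.map_id _) _)
  refine ⟨(Curv2.resMap k X x).injective, fun a => ⟨φ a, φ.hom.injective (key _)⟩⟩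

end Groth.Agent.H29Weierstrass
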