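import Groth.Agent.H29Weierstrass.Main

/-!
# Legendre form of a curve of genus one over an algebraically closed field
-/

set_option autoImplicit false
set_option linter.style.haveILetI false
set_option backward.isDefEq.respectTransparency.types false

universe u

open CategoryTheory CategoryTheory.Limits AlgebraicGeometry TopologicalSpace
open MvPolynomial LefPen

namespace Groth.Agent.H29Weierstrass

noncomputable section

variable {k : Type u} [Field k] {E : Scheme.{u}} [E.Over (Spec (CommRingCat.of k))]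

/-- The form `Y² Z - (X - r₀ Z)(X - r₁ Z)(X - r₂ Z)`. -/
def rootsForm (r₀ r₁ r₂ : k) : MvPolynomial (Fin (2 + 1)) k :=
  X 1 ^ 2 * X 2 - (X 0 - C r₀ * X 2) * (X 0 - C r₁ * X 2) * (X 0 - C r₂ * X 2)

theorem isHomogeneous_rootsForm (r₀ r₁ r₂ : k) : (rootsForm r₀ r₁ r₂).IsHomogeneous 3 := by
  have h : ∀ r : k, (X 0 - C r * X 2 : MvPolynomial (Fin (2 + 1)) k).IsHomogeneous 1 := fun r =>
    (isHomogeneous_X _ 0).sub ((isHomogeneous_C _ r).mul (isHomogeneous_X _ 2))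
  exact (((isHomogeneous_X _ 1).pow 2).mul (isHomogeneous_X _ 2)).sub (((h r₀).mul (h r₁)).mul (h r₂))

/-- With a repeated root the cubic is singular. -/
theorem not_smooth_of_double_root (α β : k) (W : Form 2 k 3) (hW : W.1 = rootsForm α α β) :
    ¬ Smooth ((hypIdeal W).subschemeι ≫ CohB1.ProjSpace.toSpec 2 k) := by
  intro hs
  haveI := (H23Weier.smooth_chart W hs 2).formallySmooth
  let g := H11Proj.ProjSpace.dehom 2 k 2 W.1
  let i0 : {l : Fin (2 + 1) // l ≠ 2} := ⟨0, by decide⟩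
  let i1 : {l : Fin (2 + 1) // l ≠ 2} := ⟨1, by decide⟩
  let R := AdjoinRoot ((Polynomial.X : Polynomial k) ^ 3)
  let e : R := AdjoinRoot.root _
  let J : Ideal R := Ideal.span {e ^ 2}
  have he3 : e ^ 3 = 0 := by
    rw [← AdjoinRoot.mk_self (f := (Polynomial.X : Polynomial k) ^ 3), map_pow, AdjoinRoot.mk_X]
  have he2 : e ^ 2 ≠ 0 := by
    intro h
    rw [show e ^ 2 = AdjoinRoot.mk _ ((Polynomial.X : Polynomial k) ^ 2) by rw [map_pow, AdjoinRoot.mk_X],
      AdjoinRoot.mk_eq_zero] at h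
    have := Polynomial.natDegree_le_of_dvd h (pow_ne_zero 2 Polynomial.X_ne_zero)
    simp at this
  have hev : ∀ (S : Type u) [CommRing S] [Algebra k S] (w : {l : Fin (2 + 1) // l ≠ 2} → S),
      MvPolynomial.aeval w g = w i1 ^ 2 -
        (w i0 - algebraMap k S α) * (w i0 - algebraMap k S α) * (w i0 - algebraMap k S β) := by
    intro S _ _ w
    simp [g, hW, rootsForm, H11Proj.ProjSpace.dehom, i0, i1]
  let w : {l : Fin (2 + 1) // l ≠ 2} → R := fun l => if l = i0 then algebraMap k R α else e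
  let q : MvPolynomial {l : Fin (2 + 1) // l ≠ 2} k ⧸ Ideal.span {g} →ₐ[k] R ⧸ J :=
    Ideal.Quotient.liftₐ _ ((Ideal.Quotient.mkₐ k J).comp (MvPolynomial.aeval w)) (by
      intro z hz
      obtain ⟨d, rfl⟩ := Ideal.mem_span_singleton'.1 hz
      rw [map_mul]
      refine mul_eq_zero_of_right _ ?_
      rw [AlgHom.comp_apply, hev, Ideal.Quotient.mkₐ_eq_mk, Ideal.Quotient.eq_zero_iff_mem]
      refine Ideal.mem_span_singleton'.2 ⟨1, ?_⟩
      simp [w, i0, i1])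
  have hJ : IsNilpotent J := ⟨2, by
    rw [Ideal.span_singleton_pow, show (e ^ 2) ^ 2 = e ^ 3 * e by ring, he3, zero_mul,
      Ideal.span_singleton_zero]
    rfl⟩
  let φ := Algebra.FormallySmooth.lift J hJ q
  have hφ : ∀ l, φ (Ideal.Quotient.mk _ (MvPolynomial.X l)) - w l ∈ J := fun l => by
    rw [← Ideal.Quotient.eq, Algebra.FormallySmooth.mk_lift]
    simp [q]
  obtain ⟨c0, h0⟩ := Ideal.mem_span_singleton'.1 (hφ i0)
  obtain ⟨c1, h1⟩ := Ideal.mem_span_singleton'.1 (hφ i1)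
  have hg : φ (Ideal.Quotient.mk _ g) = 0 := by
    rw [Ideal.Quotient.eq_zero_iff_mem.2 (Ideal.mem_span_singleton_self g), map_zero]
  rw [show φ (Ideal.Quotient.mk _ g) = (φ.comp (Ideal.Quotient.mkₐ k _)) g from rfl,
    MvPolynomial.aeval_unique (φ.comp (Ideal.Quotient.mkₐ k _)), hev] at hg
  simp only [Function.comp_apply, AlgHom.comp_apply, Ideal.Quotient.mkₐ_eq_mk] at hg
  rw [eq_add_of_sub_eq' h0.symm, eq_add_of_sub_eq' h1.symm] at hg
  simp [w, i0, i1] at hg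
  refine he2 ?_
  linear_combination hg - 2 * c1 * he3 - c1 ^ 2 * e * he3 +
    c0 ^ 2 * (algebraMap k R α - algebraMap k R β + c0 * e ^ 2) * e * he3

variable [IsProper (E ↘ Spec (CommRingCat.of k))] [Smooth (E ↘ Spec (CommRingCat.of k))]
  [GeometricallyConnected (E ↘ Spec (CommRingCat.of k))] [IsIntegral E]

/-- A linear change of coordinates of a plane cubic model. -/
theorem exists_iso_of_subst (hdim : topologicalKrullDim E = 1) (hg : Curv2.genus k E = 1) {W₀ : Form 2 k 3}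
    (e₀ : E ≅ (hypIdeal W₀).subscheme)
    (he₀ : e₀.hom ≫ (hypIdeal W₀).subschemeι ≫ CohB1.ProjSpace.toSpec 2 k = E ↘ Spec (CommRingCat.of k))
    (N : Matrix (Fin (2 + 1)) (Fin (2 + 1)) k) (hN : IsUnit N) (W : Form 2 k 3) (hW0 : W.1 ≠ 0) {c : k}
    (hsubst : H17.GenusZeroSt.subst 2 k N W.1 = C c * W₀.1) :
    Smooth ((hypIdeal W).subschemeι ≫ CohB1.ProjSpace.toSpec 2 k) ∧
      ∃ e : E ≅ (hypIdeal W).subscheme,
        e.hom ≫ (hypIdeal W).subschemeι ≫ CohB1.ProjSpace.toSpec 2 k = E ↘ Spec (CommRingCat.of k) := by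
  obtain ⟨σ, hσ, hσmem⟩ := H17.GenusZeroSt.exists_aut_subst 2 k N hN
  let i : E ⟶ CohB1.ProjSpace 2 k := e₀.hom ≫ (hypIdeal W₀).subschemeι
  let j : E ⟶ CohB1.ProjSpace 2 k := i ≫ σ.hom
  haveI : IsClosedImmersion j := inferInstance
  have hjk : j ≫ CohB1.ProjSpace.toSpec 2 k = E ↘ Spec (CommRingCat.of k) := by
    simp only [j, i, Category.assoc, hσ, he₀]
  have hiη : W₀.1 ∈ (i (genericPoint E)).asHomogeneousIdeal :=
    (H17.GenusZeroSt.range_hypersurface W₀).le ⟨e₀.hom (genericPoint E), (Scheme.Hom.comp_apply _ _ _).symm⟩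
  obtain ⟨d, G, hd1, hGirr, hGmem, -, hGker⟩ := H17.GenusZeroSt.exists_form j hdim
  obtain ⟨rfl, -⟩ := cubic_of_plane hg j hjk hd1 G hGirr hGker
  have hWη : W.1 ∈ (j (genericPoint E)).asHomogeneousIdeal := by
    by_contra h
    have h' := (hσmem W.1 (i (genericPoint E))).1 h
    rw [hsubst] at h'
    exact h' ((i (genericPoint E)).asHomogeneousIdeal.toIdeal.mul_mem_left _ hiη)
  have hass : Associated G.1 W.1 := by
    obtain ⟨h, hh⟩ := (hGmem W.1).1 hWη
    have hh0 : h ≠ 0 := by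
      rintro rfl
      exact hW0 (by rw [hh, mul_zero])
    have hdeg := totalDegree_mul_of_isDomain hGirr.ne_zero hh0
    rw [← hh, ((mem_homogeneousSubmodule 3 _).1 W.2).totalDegree hW0,
      ((mem_homogeneousSubmodule 3 _).1 G.2).totalDegree hGirr.ne_zero] at hdeg
    have hC := totalDegree_eq_zero_iff_eq_C.1 (show h.totalDegree = 0 by omega)
    refine associated_of_dvd_dvd ⟨h, hh⟩ ((IsUnit.dvd_mul_right ?_).1 (dvd_of_eq hh))
    rw [hC]
    refine (isUnit_iff_ne_zero.2 fun h0 => hh0 ?_).map C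
    rw [hC, h0, map_zero]
  have hkerW : j.ker = hypIdeal W := hGker.trans (hypIdeal_congr G W hass)
  have hWirr : Irreducible W.1 := hass.irreducible hGirr
  refine ⟨(cubic_of_plane hg j hjk hd1 W hWirr hkerW).2, ?_⟩
  have hk : (hypIdeal W).subschemeι.ker = j.ker := by rw [Scheme.IdealSheafData.ker_subschemeι, hkerW]
  let e₁ := IsClosedImmersion.lift (hypIdeal W).subschemeι j hk.le
  let e₂ := IsClosedImmersion.lift j (hypIdeal W).subschemeι hk.ge
  have he₁ : e₁ ≫ (hypIdeal W).subschemeι = j := IsClosedImmersion.lift_fac _ _ _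
  have he₂ : e₂ ≫ j = (hypIdeal W).subschemeι := IsClosedImmersion.lift_fac _ _ _
  refine ⟨⟨e₁, e₂, ?_, ?_⟩, ?_⟩
  · rw [← cancel_mono j, Category.assoc, he₂, he₁, Category.id_comp]
  · rw [← cancel_mono (hypIdeal W).subschemeι, Category.assoc, he₁, he₂, Category.id_comp]
  · show e₁ ≫ _ = _
    rw [← Category.assoc, he₁, hjk]

theorem rootsForm_ne_zero (r₀ r₁ r₂ : k) : rootsForm r₀ r₁ r₂ ≠ 0 := by
  intro h
  have := congrArg (eval ![1, 0, 0]) h
  simp [rootsForm] at this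

/-- Over an algebraically closed field of characteristic not two: Legendre form. -/
theorem exists_legendre [IsAlgClosed k] (h2 : (2 : k) ≠ 0) (hdim : topologicalKrullDim E = 1)
    (hg : Curv2.genus k E = 1) {o : E} (ho : IsClosed ({o} : Set E)) (hres : Function.Bijective (Curv2.resMap k E o)) :
    ∃ (l : k) (W : Form 2 k 3), l ≠ 0 ∧ l ≠ 1 ∧
      (W : MvPolynomial (Fin (2 + 1)) k) = X 1 ^ 2 * X 2 - X 0 * (X 0 - X 2) * (X 0 - C l * X 2) ∧
      ∃ e : E ≅ (hypIdeal W).subscheme,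
        e.hom ≫ (hypIdeal W).subschemeι ≫ CohB1.ProjSpace.toSpec 2 k = E ↘ Spec (CommRingCat.of k) := by
  classical
  obtain ⟨a₁, a₂, a₃, a₄, a₆, W₀, hW₀, e₀, he₀⟩ := exists_weierstrass hdim hg ho hres
  let A : k := a₂ + (a₁ / 2) ^ 2
  let B : k := a₄ + 2 * (a₁ / 2) * (a₃ / 2)
  let C' : k := a₆ + (a₃ / 2) ^ 2
  -- the three roots
  obtain ⟨r₀, hr₀⟩ := IsAlgClosed.exists_root
    ((Polynomial.C 1 * Polynomial.X ^ 3 + Polynomial.C A * Polynomial.X ^ 2 + Polynomial.C B * Polynomial.X +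
      Polynomial.C C' : Polynomial k)) (by rw [Polynomial.degree_cubic one_ne_zero]; decide)
  simp at hr₀
  obtain ⟨D, hD⟩ := IsAlgClosed.exists_pow_nat_eq ((A + r₀) ^ 2 - 4 * (B + r₀ * (A + r₀))) two_pos
  let r₁ : k := (-(A + r₀) + D) / 2
  let r₂ : k := (-(A + r₀) - D) / 2
  have hs1 : r₀ + r₁ + r₂ = -A := by simp only [r₁, r₂]; field_simp; ring
  have hp : r₁ * r₂ = B + r₀ * (A + r₀) := by
    simp only [r₁, r₂]; field_simp; linear_combination -hD
  have hs2 : r₀ * r₁ + r₀ * r₂ + r₁ * r₂ = B := by linear_combination hp + r₀ * hs1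
  have hs3 : r₀ * r₁ * r₂ = -C' := by linear_combination r₀ * hp + hr₀
  let W₁ : Form 2 k 3 := ⟨rootsForm r₀ r₁ r₂, (mem_homogeneousSubmodule 3 _).2 (isHomogeneous_rootsForm _ _ _)⟩
  let N₁ : Matrix (Fin (2 + 1)) (Fin (2 + 1)) k := !![1, 0, 0; a₁ / 2, 1, a₃ / 2; 0, 0, 1]
  have hN₁ : IsUnit N₁ := by
    rw [Matrix.isUnit_iff_isUnit_det]
    simp [N₁, Matrix.det_fin_three]
  have hsub₁ : H17.GenusZeroSt.subst 2 k N₁ W₁.1 = C 1 * W₀.1 := by
    rw [H17.GenusZeroSt.subst_apply, hW₀, map_one, one_mul]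
    simp only [W₁, rootsForm, map_sub, map_mul, map_pow, aeval_X, aeval_C, algebraMap_eq]
    simp [H17.GenusZeroSt.lform, N₁, Fin.sum_univ_three]
    have E1 := congrArg (C (σ := Fin (2 + 1))) hs1
    have E2 := congrArg (C (σ := Fin (2 + 1))) hs2
    have E3 := congrArg (C (σ := Fin (2 + 1))) hs3
    have h12 : C a₁ = 2 * C (σ := Fin (2 + 1)) (a₁ / 2) := by
      rw [← map_ofNat (C (σ := Fin (2 + 1)) (R := k)) 2, ← map_mul, mul_div_cancel₀ _ h2]
    have h32 : C a₃ = 2 * C (σ := Fin (2 + 1)) (a₃ / 2) := by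
      rw [← map_ofNat (C (σ := Fin (2 + 1)) (R := k)) 2, ← map_mul, mul_div_cancel₀ _ h2]
    simp only [A, B, C', map_add, map_mul, map_pow, map_neg, map_ofNat] at E1 E2 E3
    linear_combination (X 0 ^ 2 * X 2) * E1 - (X 0 * X 2 ^ 2) * E2 + X 2 ^ 3 * E3 -
      (X 0 * X 1 * X 2) * h12 - (X 1 * X 2 ^ 2) * h32
  obtain ⟨hsm, e₁, he₁⟩ := exists_iso_of_subst hdim hg e₀ he₀ N₁ hN₁ W₁ (rootsForm_ne_zero _ _ _) hsub₁
  -- the roots are distinct
  have h01 : r₀ ≠ r₁ := fun h => not_smooth_of_double_root r₀ r₂ W₁ (by simp only [W₁, rootsForm, ← h]) hsm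
  have h02 : r₀ ≠ r₂ := fun h => not_smooth_of_double_root r₀ r₁ W₁
    (by simp only [W₁, rootsForm, ← h]; ring) hsm
  have h12 : r₁ ≠ r₂ := fun h => not_smooth_of_double_root r₁ r₀ W₁
    (by simp only [W₁, rootsForm, ← h]; ring) hsm
  have hd : r₁ - r₀ ≠ 0 := sub_ne_zero.2 h01.symm
  let α : k := (r₁ - r₀)⁻¹
  let l : k := α * (r₂ - r₀)
  obtain ⟨β, hβ⟩ := IsAlgClosed.exists_pow_nat_eq (α ^ 3) two_pos
  have hα : α ≠ 0 := inv_ne_zero hd
  have hβ0 : β ≠ 0 := by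
    rintro rfl
    exact pow_ne_zero 3 hα (by rw [← hβ]; simp)
  have hα1 : α * (r₁ - r₀) = 1 := inv_mul_cancel₀ hd
  let wl : MvPolynomial (Fin (2 + 1)) k := X 1 ^ 2 * X 2 - X 0 * (X 0 - X 2) * (X 0 - C l * X 2)
  have hwl : wl = rootsForm 0 1 l := by simp [wl, rootsForm]
  let W : Form 2 k 3 := ⟨wl, hwl ▸ (mem_homogeneousSubmodule 3 _).2 (isHomogeneous_rootsForm _ _ _)⟩
  let N : Matrix (Fin (2 + 1)) (Fin (2 + 1)) k := !![α, 0, -(α * r₀); 0, β, 0; 0, 0, 1]
  have hN : IsUnit N := by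
    rw [Matrix.isUnit_iff_isUnit_det]
    simp [N, Matrix.det_fin_three, hα, hβ0]
  have hsub : H17.GenusZeroSt.subst 2 k N W.1 = C (α ^ 3) * W₁.1 := by
    rw [H17.GenusZeroSt.subst_apply]
    simp only [W, W₁, wl, rootsForm, map_sub, map_mul, map_pow, aeval_X, aeval_C, algebraMap_eq]
    simp [H17.GenusZeroSt.lform, N, Fin.sum_univ_three]
    have E1 := congrArg (C (σ := Fin (2 + 1))) hα1
    have E2 := congrArg (C (σ := Fin (2 + 1))) hβ
    have E3 := congrArg (C (σ := Fin (2 + 1))) (show l = α * (r₂ - r₀) from rfl)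
    simp only [map_sub, map_mul, map_pow, map_one] at E1 E2 E3
    linear_combination (X 1 ^ 2 * X 2) * E2 -
      (C α * (X 0 - C r₀ * X 2) * X 2 * (C α * (X 0 - C r₀ * X 2) - C l * X 2)) * E1 +
      (C α * (X 0 - C r₀ * X 2) * X 2 * (C α * (X 0 - C r₁ * X 2))) * E3
  refine ⟨l, W, mul_ne_zero hα (sub_ne_zero.2 h02.symm), fun h => h12 ?_, rfl,
    (exists_iso_of_subst hdim hg e₁ he₁ N hN W (hwl.trans_ne (rootsForm_ne_zero _ _ _)) hsub).2⟩
  have : α * (r₂ - r₀) = α * (r₁ - r₀) := h.trans hα1.symm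
  linear_combination -(mul_left_cancel₀ hα this)

end

end Groth.Agent.H29Weierstrass
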