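import Groth.Agent.H29Weierstrass.Algebra
import Groth.Agent.H29Weierstrass.Embed
import Groth.Agent.H17.GenusZeroSt.Classify
import Groth.Agent.H29DoubleCover.FibreDivisor
import Groth.Agent.H29DoubleCover.Connected
import Groth.Agent.S19178

/-!
# Weierstrass form of a genus one curve with a rational point, over any field
-/

set_option autoImplicit false
set_option linter.style.haveILetI false
set_option backward.isDefEq.respectTransparency.types false

universe u

open CategoryTheory CategoryTheory.Limits AlgebraicGeometry TopologicalSpace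
open MvPolynomial LefPen Groth.Agent.H29RR

namespace Groth.Agent.H29Weierstrass

attribute [local instance 10000] H10Coh.hasSheafifyAb H10Coh.hasWeakSheafifyAb H10Coh.hasExtAb H10Coh.enoughInjAb

noncomputable section

variable {k : Type u} [Field k] {E : Scheme.{u}} [E.Over (Spec (CommRingCat.of k))]
  [IsProper (E ↘ Spec (CommRingCat.of k))] [Smooth (E ↘ Spec (CommRingCat.of k))]
  [GeometricallyConnected (E ↘ Spec (CommRingCat.of k))] [IsIntegral E]

open Classical in
/-- The plane model by the sections of `O(3 o)`: the line `T₂` cuts out `o` alone and `T₀` vanishes there. -/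
theorem exists_plane_flex (hdim : topologicalKrullDim E = 1) (hg : Curv2.genus k E = 1) {o : E}
    (ho : IsClosed ({o} : Set E)) (hres : Function.Bijective (Curv2.resMap k E o)) :
    ∃ i : E ⟶ CohB1.ProjSpace 2 k, IsClosedImmersion i ∧
      i ≫ CohB1.ProjSpace.toSpec 2 k = E ↘ Spec (CommRingCat.of k) ∧
      (∀ y, i y ∈ Proj.basicOpen (CohB1.polyGrading 2 k) (X 2) ↔ y ≠ o) ∧
      ¬ i o ∈ Proj.basicOpen (CohB1.polyGrading 2 k) (X 0) := by
  letI := Curv2.resAlgebra k E
  haveI := isNoetherian_of_proper (k := k) (X := E)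
  haveI := H29DoubleCover.geometricallyIntegral_of_smooth_connected (E ↘ Spec (CommRingCat.of k))
  have h1 : Module.finrank k (E.residueField o) = 1 :=
    (AlgEquiv.ofBijective (Algebra.ofId k (E.residueField o)) hres).toLinearEquiv.finrank_eq.symm.trans
      (Module.finrank_self k)
  have h00 : Module.finrank k (Coh.HH E (Coh.structureModule E) 0) = 1 :=
    H29DoubleCover.finrank_h0_structure (E ↘ Spec (CommRingCat.of k))
  have hI := H29CurveDual.isInvertible_pt (k := k) hdim ho
  have hIc := H29CurveDual.isCoh_of_isInvertible hI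
  obtain ⟨M, hM, ⟨e⟩⟩ := exists_inverse_comm hI
  have hdI : ∀ {N : E.Modules}, PicF.IsInvertible N →
      Curv2.deg k E (CohB1.tensorMod (ClSub.idealMod (ptIdeal o)) N) 1 = Curv2.deg k E N 1 - 1 := by
    intro N hN
    obtain ⟨-, -, h3⟩ := twist_point (k := k) ho hN hIc
    rw [h1] at h3
    rw [deg_def, deg_def]
    omega
  have hdM : Curv2.deg k E M 1 = 1 := by
    have h := hdI hM
    rw [deg_congr (k := k) e, deg_structureModule] at h
    omega
  -- the section with divisor `o`
  let w : Γ(M, ⊤) := (ptIncl o M).app ⊤ (e.inv.app ⊤ (H11Ample.one ⊤))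
  obtain ⟨hoff, hat, -⟩ := H29CurveDual.ptIncl_stalks (k := k) ho h1 hM hI
  have hw : ∀ y, y ∈ H11Ample.gen M w ↔ y ≠ o := by
    intro y
    constructor
    · rintro hy rfl
      rw [H29CurveDual.mem_gen_iff_notMem hM, ← hat] at hy
      exact hy ⟨_, germ_app _ _ _⟩
    · intro hne
      rw [H29CurveDual.mem_gen_iff_notMem hM, ← germ_app, H29CurveDual.mem_smul_top_iff _ _ (hoff y hne),
        ← H29CurveDual.mem_gen_iff_notMem (H11Ample.isInvertible_tensor hI hM), H11Ample.gen_iso]
      refine H11Ample.mem_gen_of_isGen (W := ⊤) ?_ (show y ∈ (⊤ : E.Opens) from trivial)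
      have h0 : (homOfLE (le_top : (⊤ : E.Opens) ≤ ⊤)).op = 𝟙 _ := Subsingleton.elim _ _
      rw [h0, CategoryTheory.Functor.map_id]
      exact H11Ample.isGen_one (X := E) ⊤
  let L := CohB1.tensorPow M 3
  have hL : PicF.IsInvertible L := H11Ample.isInvertible_tensorPow hM 3
  have hdpow : ∀ m : ℕ, Curv2.deg k E (CohB1.tensorPow M m) 1 = m := by
    intro m
    induction m with
    | zero => exact deg_structureModule (k := k) (X := E)
    | succ m ih =>
      show Curv2.deg k E (CohB1.tensorMod (CohB1.tensorPow M m) M) 1 = _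
      rw [deg_tensor (k := k) hdim.le (H11Ample.isInvertible_tensorPow hM m) hM, ih, hdM]
      push_cast
      rfl
  have hdL : Curv2.deg k E L 1 = 3 := hdpow 3
  have hh0 : ∀ {N : E.Modules}, PicF.IsInvertible N → 1 ≤ Curv2.deg k E N 1 →
      (Module.finrank k (Coh.HH E N 0) : ℤ) = Curv2.deg k E N 1 := by
    intro N hN hd
    haveI := H29CurveDual.subsingleton_h1_of_deg_ge (k := k) hdim.le h00 hN (by rw [hg]; push_cast; omega)
    have hrr := riemann_roch (k := k) hdim.le N
    rw [Module.finrank_zero_of_subsingleton (M := Coh.HH E N 1), h00, hg] at hrr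
    omega
  let s : Γ(L, ⊤) := H11Ample.spow w 3
  have hs : ∀ y, y ∈ H11Ample.gen L s ↔ y ≠ o := fun y => by
    show y ∈ H11Ample.gen (CohB1.tensorPow M 3) (H11Ample.spow w 3) ↔ _
    rw [H11Ample.gen_spow hM w 3 (by norm_num)]
    exact hw y
  have hLdim : Module.finrank k (Coh.HH E L 0) = 3 := by
    have := hh0 hL (by omega)
    omega
  have hVdim : Module.finrank k (vanishSub k o L) = 2 := by
    rw [finrank_vanishSub (rank_one_of_isInvertible hL)]
    have := hh0 (H11Ample.isInvertible_tensor hI hL) (by rw [hdI hL]; omega)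
    rw [hdI hL, hdL] at this
    omega
  obtain ⟨-, hatL, hvanL⟩ := H29CurveDual.ptIncl_stalks (k := k) ho h1 hL hI
  have hV : ∀ v : Coh.HH E L 0, v ∈ vanishSub k o L ↔ o ∉ H11Ample.gen L (sec L v) := by
    intro v
    rw [H29CurveDual.mem_gen_iff_notMem hL, not_not, ← hatL]
    refine ⟨?_, hvanL v⟩
    rintro ⟨z, rfl⟩
    rw [sec_natural, ← germ_app]
    exact ⟨_, rfl⟩
  haveI := finite_HH (k := k) L hL 0
  let xs : Coh.HH E L 0 := (sec L).symm s
  have hxs : xs ∈ vanishSub k o L := by
    rw [hV, AddEquiv.apply_symm_apply, hs]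
    simp
  have hxs0 : xs ≠ 0 := by
    intro h
    have hg' : genericPoint E ∈ H11Ample.gen L s := by
      rw [hs]
      exact fun h => H29CurveDual.not_isField_stalk_of_closed (k := k) hdim ho
        (h ▸ Field.toIsField E.functionField)
    rw [show s = 0 by rw [← (sec L).apply_symm_apply s, show (sec L).symm s = 0 from h, map_zero],
      H29CurveDual.mem_gen_iff_notMem hL, map_zero] at hg'
    exact hg' (Submodule.zero_mem _)
  obtain ⟨x0, hx0, hli⟩ : ∃ x0 ∈ vanishSub k o L, LinearIndependent k ![x0, xs] := by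
    obtain ⟨z, hz⟩ := exists_linearIndependent_pair_of_one_lt_finrank (R := k) (M := vanishSub k o L)
      (by omega) (x := ⟨xs, hxs⟩) (fun h => hxs0 (congrArg Subtype.val h))
    refine ⟨z.1, z.2, ?_⟩
    have := (LinearIndependent.pair_symm_iff.1 hz).map' (vanishSub k o L).subtype (Submodule.ker_subtype _)
    convert this using 1
    all_goals first
      | rfl
      | (funext j; fin_cases j <;> rfl)
  obtain ⟨x1, hx1⟩ : ∃ x1, x1 ∉ vanishSub k o L := by
    by_contra hc
    push Not at hc
    have : vanishSub k o L = ⊤ := eq_top_iff.2 fun z _ => hc z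
    rw [this, finrank_top, hLdim] at hVdim
    omega
  let β : Fin (2 + 1) → Coh.HH E L 0 := ![x0, x1, xs]
  have hβ : LinearIndependent k β := by
    refine Fintype.linearIndependent_iff.2 fun c hc => ?_
    rw [Fin.sum_univ_three] at hc
    simp only [β, Matrix.cons_val] at hc
    have h1' : c 1 = 0 := by
      by_contra hne
      refine hx1 ?_
      have : x1 = (c 1)⁻¹ • (-(c 0 • x0) - c 2 • xs) := by
        rw [eq_inv_smul_iff₀ hne]
        linear_combination (norm := module) hc
      rw [this]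
      exact Submodule.smul_mem _ _ (Submodule.sub_mem _ (Submodule.neg_mem _ (Submodule.smul_mem _ _ hx0))
        (Submodule.smul_mem _ _ hxs))
    rw [h1', zero_smul, add_zero] at hc
    have h2 := Fintype.linearIndependent_iff.1 hli ![c 0, c 2] (by simpa using hc)
    intro j
    fin_cases j
    · exact h2 0
    · exact h1'
    · exact h2 1
  let b := basisOfLinearIndependentOfCardEqFinrank hβ (by simp [hLdim])
  let v : Fin (2 + 1) → Γ(L, ⊤) := fun j => sec L (β j)
  have hcomb : ∀ g : Γ(L, ⊤), ∃ c : Fin (2 + 1) → k,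
      g = ∑ j, ProjUP.toGlobal (E ↘ Spec (CommRingCat.of k)) (c j) • v j := fun g =>
    ⟨fun j => b.repr ((sec L).symm g) j, by
      rw [← H29CurveDual.sec_comb (k := k) (L := L)]
      conv_lhs => rw [← (sec L).apply_symm_apply g, ← b.sum_repr ((sec L).symm g)]
      simp [b]⟩
  have hv2 : v 2 = s := (sec L).apply_symm_apply s
  have hcover : ∀ y, ∃ l, y ∈ H11Ample.gen L (v l) := fun y => by
    by_cases hy : y = o
    · refine ⟨1, ?_⟩
      subst hy
      have := (hV x1).not.1 hx1
      exact not_not.1 this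
    · exact ⟨2, by rw [hv2, hs]; exact hy⟩
  obtain ⟨i, hi, hik, hpre⟩ := exists_embedding_of_spanning hdim h00 hL (by rw [hg, hdL]; norm_num) v hcomb hcover
  refine ⟨i, hi, hik, fun y => ?_, fun h => ?_⟩
  · show y ∈ i ⁻¹ᵁ Proj.basicOpen (CohB1.polyGrading 2 k) (X 2) ↔ _
    rw [hpre, hv2]
    exact hs y
  · have h' : o ∈ i ⁻¹ᵁ Proj.basicOpen (CohB1.polyGrading 2 k) (X 0) := h
    rw [hpre] at h'
    exact (hV x0).1 hx0 h'

omit [IsProper (E ↘ Spec (CommRingCat.of k))] [GeometricallyConnected (E ↘ Spec (CommRingCat.of k))] [IsIntegral E] in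
/-- An irreducible form cutting out a plane model of a smooth curve of genus one is a smooth cubic. -/
theorem cubic_of_plane (hg : Curv2.genus k E = 1) (i : E ⟶ CohB1.ProjSpace 2 k) [IsClosedImmersion i]
    (hi : i ≫ CohB1.ProjSpace.toSpec 2 k = E ↘ Spec (CommRingCat.of k)) {d : ℕ} (hd1 : 1 ≤ d) (F : Form 2 k d)
    (hirr : Irreducible F.1) (hker : i.ker = hypIdeal F) :
    d = 3 ∧ Smooth ((hypIdeal F).subschemeι ≫ CohB1.ProjSpace.toSpec 2 k) := by
  haveI : IsProper (CohB1.ProjSpace.toSpec 2 k) := H27Weil.isProper_toSpec 2 k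
  have hk : (hypIdeal F).subschemeι.ker = i.ker := by rw [Scheme.IdealSheafData.ker_subschemeι, hker]
  let a := IsClosedImmersion.lift (hypIdeal F).subschemeι i hk.le
  let a' := IsClosedImmersion.lift i (hypIdeal F).subschemeι hk.ge
  have ha : a ≫ (hypIdeal F).subschemeι = i := IsClosedImmersion.lift_fac _ _ _
  have ha' : a' ≫ i = (hypIdeal F).subschemeι := IsClosedImmersion.lift_fac _ _ _
  haveI : IsIso a := ⟨a', by rw [← cancel_mono i, Category.assoc, ha', ha, Category.id_comp],
    by rw [← cancel_mono (hypIdeal F).subschemeι, Category.assoc, ha, ha', Category.id_comp]⟩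
  let p := (hypIdeal F).subschemeι ≫ CohB1.ProjSpace.toSpec 2 k
  have hap : a ≫ p = E ↘ Spec (CommRingCat.of k) := by rw [← Category.assoc, ha, hi]
  have hsm : Smooth p := by
    have : p = inv a ≫ (E ↘ Spec (CommRingCat.of k)) := by rw [← hap, IsIso.inv_hom_id_assoc]
    rw [this]
    infer_instance
  have hsq : IsPullback a (E ↘ Spec (CommRingCat.of k)) p (Spec.map (CommRingCat.ofHom (algebraMap k k))) := by
    rw [show CommRingCat.ofHom (algebraMap k k) = 𝟙 (CommRingCat.of k) from rfl, Spec.map_id]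
    exact IsPullback.of_horiz_isIso ⟨by rw [Category.comp_id]; exact hap⟩
  haveI : IsProper p := inferInstance
  refine ⟨?_, hsm⟩
  have hg2 := (H29DoubleCover.genus_bc p (E ↘ Spec (CommRingCat.of k)) a hsq).symm.trans hg
  letI : (hypIdeal F).subscheme.Over (Spec (CommRingCat.of k)) := ⟨p⟩
  have h := (H14Plane.plane_curve k d hd1 F hirr.ne_zero rfl).2.2
  replace h := h.symm.trans hg2
  by_contra hd3
  rcases Nat.lt_or_ge d 3 with hlt | hge
  · interval_cases d <;> simp at h
  · have h2 : 3 * 2 ≤ (d - 1) * (d - 2) := Nat.mul_le_mul (by omega) (by omega)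
    omega

/-- Forms differing by a nonzero constant cut out the same subscheme. -/
theorem hypIdeal_congr {d : ℕ} (F G : Form 2 k d) (h : Associated F.1 G.1) : hypIdeal F = hypIdeal G := by
  refine Scheme.IdealSheafData.ext_of_iSup_eq_top (H25Transversal.chartU 2 k)
    (H11Proj.ProjSpace.iSup_basicOpen 2 k) fun j => ?_
  rw [H25Transversal.hypIdeal_ideal_chart, H25Transversal.hypIdeal_ideal_chart,
    ← H25Transversal.polyToSection_form, ← H25Transversal.polyToSection_form]
  exact le_antisymm (Ideal.span_singleton_le_span_singleton.2 (map_dvd _ h.symm.dvd))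
    (Ideal.span_singleton_le_span_singleton.2 (map_dvd _ h.dvd))

/-- A genus one curve with a rational point is a Weierstrass cubic. -/
theorem exists_weierstrass (hdim : topologicalKrullDim E = 1) (hg : Curv2.genus k E = 1) {o : E}
    (ho : IsClosed ({o} : Set E)) (hres : Function.Bijective (Curv2.resMap k E o)) :
    ∃ (a₁ a₂ a₃ a₄ a₆ : k) (W : Form 2 k 3),
      (W : MvPolynomial (Fin (2 + 1)) k) = X 1 ^ 2 * X 2 + C a₁ * X 0 * X 1 * X 2 + C a₃ * X 1 * X 2 ^ 2 - X 0 ^ 3 -
        C a₂ * X 0 ^ 2 * X 2 - C a₄ * X 0 * X 2 ^ 2 - C a₆ * X 2 ^ 3 ∧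
      ∃ e : E ≅ (hypIdeal W).subscheme,
        e.hom ≫ (hypIdeal W).subschemeι ≫ CohB1.ProjSpace.toSpec 2 k = E ↘ Spec (CommRingCat.of k) := by
  classical
  obtain ⟨i, hicl, hik, hi2, hi0⟩ := exists_plane_flex hdim hg ho hres
  haveI := hicl
  obtain ⟨d, F, hd1, hirr, hmem, hrange, hker⟩ := H17.GenusZeroSt.exists_form i hdim
  obtain ⟨rfl, hsm⟩ := cubic_of_plane hg i hik hd1 F hirr hker
  obtain ⟨ha, h210, h120, h030⟩ := coeff_eq_zero_of_flex F hirr fun y hyF hy2 => by
    obtain ⟨z, rfl⟩ := hrange.ge hyF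
    have hz : z = o := by
      by_contra hz
      exact (hi2 z).2 hz hy2
    subst hz
    by_contra h
    exact hi0 h
  have hb := coeff_ne_zero_of_smooth F hsm ha h210 h120 h030
  have hF : F.1.IsHomogeneous 3 := (mem_homogeneousSubmodule 3 _).1 F.2
  have hexp := cubic_expand hF
  rw [h210, h120, h030] at hexp
  simp only [monomial_ex, map_zero, zero_mul, add_zero, pow_zero, mul_one, pow_one] at hexp
  generalize coeff (ex 3 0 0) F.1 = a at *
  generalize coeff (ex 0 2 1) F.1 = b at *
  generalize coeff (ex 1 1 1) F.1 = p at *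
  generalize coeff (ex 0 1 2) F.1 = q at *
  generalize coeff (ex 2 0 1) F.1 = r at *
  generalize coeff (ex 1 0 2) F.1 = s at *
  generalize coeff (ex 0 0 3) F.1 = t at *
  let u : k := -b / a
  let v : k := b ^ 2 / a ^ 2
  let c : k := b ^ 3 / a ^ 4
  have hu : u ≠ 0 := by simp [u, ha, hb]
  have hv : v ≠ 0 := by simp [v, ha, hb]
  have hc : c ≠ 0 := by simp [c, ha, hb]
  let a₁ : k := c * p / (u * v)
  let a₃ : k := c * q / v
  let a₂ : k := -(c * r) / u ^ 2
  let a₄ : k := -(c * s) / u
  let a₆ : k := -(c * t)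
  let w : MvPolynomial (Fin (2 + 1)) k := X 1 ^ 2 * X 2 + C a₁ * X 0 * X 1 * X 2 + C a₃ * X 1 * X 2 ^ 2 - X 0 ^ 3 -
    C a₂ * X 0 ^ 2 * X 2 - C a₄ * X 0 * X 2 ^ 2 - C a₆ * X 2 ^ 3
  let N : Matrix (Fin (2 + 1)) (Fin (2 + 1)) k := Matrix.diagonal ![u, v, 1]
  have hN : IsUnit N := by
    rw [Matrix.isUnit_iff_isUnit_det, Matrix.det_diagonal, Fin.prod_univ_three]
    simp [hu, hv]
  have hsubst : H17.GenusZeroSt.subst 2 k N w = C c * F.1 := by
    have hl : ∀ j, H17.GenusZeroSt.lform 2 k (N j) = C (![u, v, 1] j) * X j := fun j => by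
      fin_cases j <;> simp [H17.GenusZeroSt.lform, N, Fin.sum_univ_three, Matrix.diagonal]
    rw [H17.GenusZeroSt.subst_apply, show (fun j => H17.GenusZeroSt.lform 2 k (N j)) = _ from funext hl]
    conv_rhs => rw [hexp]
    have e1 : v ^ 2 = c * b := by simp only [v, c]; field_simp
    have e2 : -u ^ 3 = c * a := by simp only [u, c]; field_simp
    have e3 : a₁ * u * v = c * p := by simp only [a₁]; field_simp
    have e4 : a₃ * v = c * q := by simp only [a₃]; field_simp
    have e5 : -(a₂ * u ^ 2) = c * r := by simp only [a₂]; field_simp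
    have e6 : -(a₄ * u) = c * s := by simp only [a₄]; field_simp
    have e7 : -a₆ = c * t := by simp only [a₆]; ring
    simp only [w, map_add, map_sub, map_mul, map_pow, aeval_C, aeval_X, algebraMap_eq, Matrix.cons_val, map_one,
      one_mul]
    simp only [mul_pow, ← map_pow]
    have E1 := congrArg (C (σ := Fin (2 + 1))) e1
    have E2 := congrArg (C (σ := Fin (2 + 1))) e2
    have E3 := congrArg (C (σ := Fin (2 + 1))) e3
    have E4 := congrArg (C (σ := Fin (2 + 1))) e4
    have E5 := congrArg (C (σ := Fin (2 + 1))) e5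
    have E6 := congrArg (C (σ := Fin (2 + 1))) e6
    have E7 := congrArg (C (σ := Fin (2 + 1))) e7
    simp only [map_mul, map_neg, map_pow] at E1 E2 E3 E4 E5 E6 E7 ⊢
    linear_combination (X 1 ^ 2 * X 2) * E1 + X 0 ^ 3 * E2 + (X 0 * X 1 * X 2) * E3 + (X 1 * X 2 ^ 2) * E4 +
      (X 0 ^ 2 * X 2) * E5 + (X 0 * X 2 ^ 2) * E6 + X 2 ^ 3 * E7
  have hwh : w.IsHomogeneous 3 := by
    simp only [w]
    have hm : ∀ (j l m : Fin (2 + 1)) (r : k), (C r * X j * X l * X m).IsHomogeneous 3 := fun j l m r =>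
      (((isHomogeneous_C _ r).mul (isHomogeneous_X _ j)).mul (isHomogeneous_X _ l)).mul (isHomogeneous_X _ m)
    refine ((((((?_ : IsHomogeneous _ 3).add ?_).add ?_).sub ?_).sub ?_).sub ?_).sub ?_
    · simpa [pow_two, mul_assoc] using hm 1 1 2 1
    · exact hm 0 1 2 a₁
    · simpa [pow_two, mul_assoc] using hm 1 2 2 a₃
    · simpa [pow_succ, mul_assoc] using hm 0 0 0 1
    · simpa [pow_two, mul_assoc] using hm 0 0 2 a₂
    · simpa [pow_two, mul_assoc] using hm 0 2 2 a₄
    · simpa [pow_succ, mul_assoc] using hm 2 2 2 a₆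
  let W : Form 2 k 3 := ⟨w, (mem_homogeneousSubmodule 3 _).2 hwh⟩
  have hWirr : Irreducible w := by
    have h := Groth.Agent.S19178.result k
      { a₁ := a₁, a₂ := a₂, a₃ := a₃, a₄ := a₄, a₆ := a₆ }
    convert h using 1
    simp only [w, WeierstrassCurve.Projective.polynomial]
    ring
  obtain ⟨σ, hσ, hσmem⟩ := H17.GenusZeroSt.exists_aut_subst 2 k N hN
  let j : E ⟶ CohB1.ProjSpace 2 k := i ≫ σ.hom
  haveI : IsClosedImmersion j := inferInstance
  have hjk : j ≫ CohB1.ProjSpace.toSpec 2 k = E ↘ Spec (CommRingCat.of k) := by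
    simp only [j, Category.assoc, hσ, hik]
  obtain ⟨d, G, hd1', hGirr, hGmem, -, hGker⟩ := H17.GenusZeroSt.exists_form j hdim
  obtain ⟨rfl, -⟩ := cubic_of_plane hg j hjk hd1' G hGirr hGker
  have hWη : w ∈ (j (genericPoint E)).asHomogeneousIdeal := by
    by_contra h
    have h' := (hσmem w (i (genericPoint E))).1 h
    rw [hsubst] at h'
    exact h' ((i (genericPoint E)).asHomogeneousIdeal.toIdeal.mul_mem_left _ ((hmem F.1).2 dvd_rfl))
  have hass : Associated G.1 W.1 := hGirr.associated_of_dvd hWirr ((hGmem w).1 hWη)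
  have hkerW : j.ker = hypIdeal W := hGker.trans (hypIdeal_congr G W hass)
  have hk : (hypIdeal W).subschemeι.ker = j.ker := by rw [Scheme.IdealSheafData.ker_subschemeι, hkerW]
  let e₁ := IsClosedImmersion.lift (hypIdeal W).subschemeι j hk.le
  let e₂ := IsClosedImmersion.lift j (hypIdeal W).subschemeι hk.ge
  have he₁ : e₁ ≫ (hypIdeal W).subschemeι = j := IsClosedImmersion.lift_fac _ _ _
  have he₂ : e₂ ≫ j = (hypIdeal W).subschemeι := IsClosedImmersion.lift_fac _ _ _
  refine ⟨a₁, a₂, a₃, a₄, a₆, W, rfl, ⟨e₁, e₂, ?_, ?_⟩, ?_⟩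
  · rw [← cancel_mono j, Category.assoc, he₂, he₁, Category.id_comp]
  · rw [← cancel_mono (hypIdeal W).subschemeι, Category.assoc, he₁, he₂, Category.id_comp]
  · show e₁ ≫ _ = _
    rw [← Category.assoc, he₁, hjk]

end

end Groth.Agent.H29Weierstrass
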